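import Mathlib

/-!
Additive functors commute with extension of complexes by zero, naturally.
-/

set_option autoImplicit false

open CategoryTheory Limits

namespace Groth.Agent.TorBalance

variable {A : Type*} [Category A] [Preadditive A] [HasZeroObject A] {B : Type*} [Category B]
  [Preadditive B] [HasZeroObject B] (G G' : A ⥤ B) [G.Additive] [G'.Additive] {ι ι' : Type*}
  {c : ComplexShape ι} {c' : ComplexShape ι'} (e : c.Embedding c')

variable {G} in
theorem map_isZero_extend (K : HomologicalComplex A c) (i' : ι') (h : ¬ ∃ i, e.f i = i') :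
    IsZero (G.obj ((K.extend e).X i')) :=
  G.map_isZero (HomologicalComplex.isZero_extend_X K e i' fun i hi => h ⟨i, hi⟩)

open scoped Classical in
/-- The components of the comparison. -/
noncomputable def mapExtendX (K : HomologicalComplex A c) (i' : ι') :
    G.obj ((K.extend e).X i') ≅ (((G.mapHomologicalComplex c).obj K).extend e).X i' :=
  if h : ∃ i, e.f i = i' then
    G.mapIso (HomologicalComplex.extendXIso K e h.choose_spec) ≪≫
      (HomologicalComplex.extendXIso ((G.mapHomologicalComplex c).obj K) e h.choose_spec).symm
  else (map_isZero_extend e K i' h).iso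
    (HomologicalComplex.isZero_extend_X _ e i' fun i hi => h ⟨i, hi⟩)

theorem mapExtendX_hom (K : HomologicalComplex A c) (i : ι) (i' : ι') (h : e.f i = i') :
    (mapExtendX G e K i').hom = G.map (HomologicalComplex.extendXIso K e h).hom ≫
      (HomologicalComplex.extendXIso ((G.mapHomologicalComplex c).obj K) e h).inv := by
  have h' : ∃ i, e.f i = i' := ⟨i, h⟩
  obtain rfl : h'.choose = i := e.injective_f (h'.choose_spec.trans h.symm)
  simp only [mapExtendX, dif_pos h', Iso.trans_hom, Functor.mapIso_hom, Iso.symm_hom]

/-- Additive functors commute with extension by zero. -/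
noncomputable def mapExtendIso (K : HomologicalComplex A c) :
    (G.mapHomologicalComplex c').obj (K.extend e) ≅ ((G.mapHomologicalComplex c).obj K).extend e :=
  HomologicalComplex.Hom.isoOfComponents (mapExtendX G e K) fun i' j' _ => by
    by_cases hi : ∃ i, e.f i = i'
    · by_cases hj : ∃ j, e.f j = j'
      · obtain ⟨i, hi⟩ := hi
        obtain ⟨j, hj⟩ := hj
        rw [mapExtendX_hom G e K i i' hi, mapExtendX_hom G e K j j' hj]
        change (G.map (HomologicalComplex.extendXIso K e hi).hom ≫ _) ≫ _ = G.map ((K.extend e).d i' j') ≫ _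
        rw [HomologicalComplex.extend_d_eq _ e hi hj, HomologicalComplex.extend_d_eq _ e hi hj]
        simp
        erw [Iso.inv_hom_id_assoc]
        rfl
      · exact (HomologicalComplex.isZero_extend_X _ e j' fun j hj' => hj ⟨j, hj'⟩).eq_of_tgt _ _
    · exact (map_isZero_extend e K i' hi).eq_of_src _ _

@[reassoc]
theorem mapExtendIso_naturality {K L : HomologicalComplex A c} (φ : K ⟶ L) :
    (G.mapHomologicalComplex c').map (HomologicalComplex.extendMap φ e) ≫ (mapExtendIso G e L).hom =
      (mapExtendIso G e K).hom ≫ HomologicalComplex.extendMap ((G.mapHomologicalComplex c).map φ) e := by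
  ext i'
  by_cases hi : ∃ i, e.f i = i'
  · obtain ⟨i, hi⟩ := hi
    change G.map ((HomologicalComplex.extendMap φ e).f i') ≫ (mapExtendX G e L i').hom =
      (mapExtendX G e K i').hom ≫ (HomologicalComplex.extendMap _ e).f i'
    rw [mapExtendX_hom G e K i i' hi, mapExtendX_hom G e L i i' hi, HomologicalComplex.extendMap_f _ e hi,
      HomologicalComplex.extendMap_f _ e hi]
    simp
    erw [Iso.inv_hom_id_assoc]
    rfl
  · exact (map_isZero_extend e K i' hi).eq_of_src _ _

@[reassoc]
theorem mapExtendIso_natTrans {G G' : A ⥤ B} [G.Additive] [G'.Additive] (α : G ⟶ G')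
    (K : HomologicalComplex A c) :
    (NatTrans.mapHomologicalComplex α c').app (K.extend e) ≫ (mapExtendIso G' e K).hom =
      (mapExtendIso G e K).hom ≫
        HomologicalComplex.extendMap ((NatTrans.mapHomologicalComplex α c).app K) e := by
  ext i'
  by_cases hi : ∃ i, e.f i = i'
  · obtain ⟨i, hi⟩ := hi
    change α.app ((K.extend e).X i') ≫ (mapExtendX G' e K i').hom =
      (mapExtendX G e K i').hom ≫ (HomologicalComplex.extendMap _ e).f i'
    rw [mapExtendX_hom G e K i i' hi, mapExtendX_hom G' e K i i' hi, HomologicalComplex.extendMap_f _ e hi]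
    simp [← NatTrans.naturality_assoc]
    erw [Iso.inv_hom_id_assoc]
    rfl
  · exact (map_isZero_extend e K i' hi).eq_of_src _ _

end Groth.Agent.TorBalance
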