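import Groth.Agent.TorBalance.LES

/-!
`Tor(-, N)` as a functor of the first variable: computation by a resolution of `N`, long exact sequence,
vanishing on flat modules, linearity.
-/

set_option autoImplicit false
set_option linter.style.haveILetI false
universe u

open CategoryTheory Limits MonoidalCategory HomologicalComplex

namespace Groth.Agent.TorBalance

variable {A : Type u} [CommRing A]

/-- `X ↦ X ⊗ K` for a complex `K`. -/
noncomputable def cxL (K : ChainComplex (ModuleCat.{u} A) ℕ) :
    ModuleCat.{u} A ⥤ ChainComplex (ModuleCat.{u} A) ℕ where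
  obj M := (((tensoringLeft (ModuleCat.{u} A)).obj M).mapHomologicalComplex _).obj K
  map f := (NatTrans.mapHomologicalComplex ((tensoringLeft (ModuleCat.{u} A)).map f) _).app K
  map_id M := by ext n : 1; simp
  map_comp f g := by ext n : 1; simp

instance (K : ChainComplex (ModuleCat.{u} A) ℕ) : (cxL K).PreservesZeroMorphisms where
  map_zero X Y := by
    ext n : 1
    exact ModuleCat.hom_ext (LinearMap.rTensor_zero _)

theorem cxL_map_smul (K : ChainComplex (ModuleCat.{u} A) ℕ) (a : A) {X Y : ModuleCat.{u} A} (f : X ⟶ Y) :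
    (cxL K).map (a • f) = a • (cxL K).map f := by
  ext n : 1
  exact ModuleCat.hom_ext (LinearMap.rTensor_smul _ a f.hom)

variable {N : ModuleCat.{u} A} (Q : ProjectiveResolution N)

/-- `Tor` is computed by a fixed resolution, naturally in the first variable. -/
noncomputable def flipIso (p : ℕ) :
    (CategoryTheory.Tor (ModuleCat.{u} A) p).flip.obj N ≅
      cxL Q.complex ⋙ HomologicalComplex.homologyFunctor (ModuleCat.{u} A) (ComplexShape.down ℕ) p :=
  NatIso.ofComponents (fun M => Q.isoLeftDerivedObj ((tensoringLeft (ModuleCat.{u} A)).obj M) p) (fun {M M'} f => by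
    show (NatTrans.leftDerived ((tensoringLeft (ModuleCat.{u} A)).map f) p).app N ≫ _ = _
    rw [ProjectiveResolution.leftDerived_app_eq _ Q, Category.assoc, Category.assoc]
    refine (congrArg (_ ≫ ·) (congrArg (_ ≫ ·) (Iso.inv_hom_id _))).trans ?_
    rw [Category.comp_id]
    rfl)

theorem shortExact_cxL {S : ShortComplex (ModuleCat.{u} A)} (hS : S.ShortExact) :
    (S.map (cxL Q.complex)).ShortExact := by
  refine HomologicalComplex.shortExact_of_degreewise_shortExact _ fun n => ?_
  haveI := flat_X Q n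
  haveI : PreservesFiniteLimits (tensorRight (Q.complex.X n)) := inferInstance
  haveI : PreservesFiniteColimits (tensorRight (Q.complex.X n)) := inferInstance
  exact hS.map_of_exact (tensorRight (Q.complex.X n))

theorem exists_les_flip {S : ShortComplex (ModuleCat.{u} A)} (hS : S.ShortExact) (N : ModuleCat.{u} A) (i : ℕ) :
    (∃ w₀ : ((Tor (ModuleCat.{u} A) i).flip.obj N).map S.f ≫ ((Tor (ModuleCat.{u} A) i).flip.obj N).map S.g = 0,
        (ShortComplex.mk (((Tor (ModuleCat.{u} A) i).flip.obj N).map S.f)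
          (((Tor (ModuleCat.{u} A) i).flip.obj N).map S.g) w₀).Exact) ∧
      ∃ (δ : ((Tor (ModuleCat.{u} A) (i + 1)).flip.obj N).obj S.X₃ ⟶ ((Tor (ModuleCat.{u} A) i).flip.obj N).obj S.X₁)
        (w₁ : ((Tor (ModuleCat.{u} A) (i + 1)).flip.obj N).map S.g ≫ δ = 0)
        (w₂ : δ ≫ ((Tor (ModuleCat.{u} A) i).flip.obj N).map S.f = 0),
        (ShortComplex.mk (((Tor (ModuleCat.{u} A) (i + 1)).flip.obj N).map S.g) δ w₁).Exact ∧
          (ShortComplex.mk δ (((Tor (ModuleCat.{u} A) i).flip.obj N).map S.f) w₂).Exact := by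
  let Q := projectiveResolution N
  have hC := shortExact_cxL Q hS
  have hrel : (ComplexShape.down ℕ).Rel (i + 1) i := by simp
  exact ⟨exact_of_natIso (flipIso Q i) S.f S.g (hC.homology_exact₂ i),
    delta_of_natIso (flipIso Q (i + 1)) (flipIso Q i) S.f S.g (hC.homology_exact₃ (i + 1) i hrel)
      (hC.homology_exact₁ (i + 1) i hrel)⟩

theorem isZero_flat (X : ModuleCat.{u} A) [Module.Flat A X] (N : ModuleCat.{u} A) (i : ℕ) :
    IsZero (((Tor (ModuleCat.{u} A) (i + 1)).obj X).obj N) := by
  let Q := projectiveResolution N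
  refine IsZero.of_iso ?_ (Q.isoLeftDerivedObj ((tensoringLeft (ModuleCat.{u} A)).obj X) (i + 1))
  haveI : PreservesFiniteLimits ((tensoringLeft (ModuleCat.{u} A)).obj X) :=
    inferInstanceAs (PreservesFiniteLimits (tensorLeft X))
  haveI : PreservesFiniteColimits ((tensoringLeft (ModuleCat.{u} A)).obj X) :=
    inferInstanceAs (PreservesFiniteColimits (tensorLeft X))
  exact HomologicalComplex.ExactAt.isZero_homology
    (show HomologicalComplex.ExactAt ((((tensoringLeft (ModuleCat.{u} A)).obj X).mapHomologicalComplex _).obj Q.complex) (i + 1)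
      from ShortComplex.Exact.map (Q.complex_exactAt_succ i) ((tensoringLeft (ModuleCat.{u} A)).obj X))

/-- The middle term vanishes when the outer ones do. -/
theorem isZero_middle {S : ShortComplex (ModuleCat.{u} A)} (hS : S.ShortExact) (N : ModuleCat.{u} A) (i : ℕ)
    (h₁ : IsZero (((Tor (ModuleCat.{u} A) i).obj S.X₁).obj N))
    (h₃ : IsZero (((Tor (ModuleCat.{u} A) i).obj S.X₃).obj N)) :
    IsZero (((Tor (ModuleCat.{u} A) i).obj S.X₂).obj N) := by
  obtain ⟨_, h⟩ := (exists_les_flip hS N i).1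
  exact h.isZero_X₂ (h₁.eq_of_src _ _) (h₃.eq_of_tgt _ _)

/-- The first term vanishes when the middle and the next last one do. -/
theorem isZero_left {S : ShortComplex (ModuleCat.{u} A)} (hS : S.ShortExact) (N : ModuleCat.{u} A) (i : ℕ)
    (h₂ : IsZero (((Tor (ModuleCat.{u} A) i).obj S.X₂).obj N))
    (h₃ : IsZero (((Tor (ModuleCat.{u} A) (i + 1)).obj S.X₃).obj N)) :
    IsZero (((Tor (ModuleCat.{u} A) i).obj S.X₁).obj N) := by
  obtain ⟨δ, w₁, w₂, -, h⟩ := (exists_les_flip hS N i).2
  exact h.isZero_X₂ (h₃.eq_of_src _ _) (h₂.eq_of_tgt _ _)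

theorem homologyMap_smul' {K L : ChainComplex (ModuleCat.{u} A) ℕ} (a : A) (φ : K ⟶ L) (p : ℕ) :
    homologyMap (a • φ) p = a • homologyMap φ p :=
  ShortComplex.homologyMap_smul ((shortComplexFunctor _ _ p).map φ) a

theorem tor_map_smul (a : A) {X Y : ModuleCat.{u} A} (f : X ⟶ Y) (N : ModuleCat.{u} A) (p : ℕ) :
    ((Tor (ModuleCat.{u} A) p).flip.obj N).map (a • f) = a • ((Tor (ModuleCat.{u} A) p).flip.obj N).map f := by
  let Q := projectiveResolution N
  rw [← NatIso.naturality_2 (flipIso Q p) (a • f), ← NatIso.naturality_2 (flipIso Q p) f]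
  show _ ≫ homologyMap ((cxL Q.complex).map (a • f)) p ≫ _ = _
  rw [cxL_map_smul, homologyMap_smul', Linear.smul_comp, Linear.comp_smul]
  rfl

end Groth.Agent.TorBalance

namespace Groth.Agent.TorBalance

variable {A : Type u} [CommRing A]

theorem cxR_map_smul {M : ModuleCat.{u} A} (P : ProjectiveResolution M) (a : A) {X Y : ModuleCat.{u} A} (f : X ⟶ Y) :
    (cxR P.complex).map (a • f) = a • (cxR P.complex).map f := by
  ext n : 1
  exact ModuleCat.hom_ext (LinearMap.lTensor_smul _ a f.hom)

theorem tor_map_smul_right (a : A) (M : ModuleCat.{u} A) {X Y : ModuleCat.{u} A} (f : X ⟶ Y) (p : ℕ) :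
    ((Tor (ModuleCat.{u} A) p).obj M).map (a • f) = a • ((Tor (ModuleCat.{u} A) p).obj M).map f := by
  let P := projectiveResolution M
  rw [← NatIso.naturality_2 (balanceIso P p) (a • f), ← NatIso.naturality_2 (balanceIso P p) f]
  show _ ≫ homologyMap ((cxR P.complex).map (a • f)) p ≫ _ = _
  rw [cxR_map_smul, homologyMap_smul', Linear.smul_comp, Linear.comp_smul]
  rfl

theorem tor_map_zero (N : ModuleCat.{u} A) (p : ℕ) (X Y : ModuleCat.{u} A) :
    ((Tor (ModuleCat.{u} A) p).flip.obj N).map (0 : X ⟶ Y) = 0 := by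
  rw [← zero_smul A (0 : X ⟶ Y), tor_map_smul, zero_smul]

/-- An element killing `N` kills `Tor(M, N)`. -/
theorem smul_id_eq_zero (a : A) (M N : ModuleCat.{u} A) (hN : ∀ y : N, a • y = 0) (p : ℕ) :
    a • 𝟙 (((Tor (ModuleCat.{u} A) p).obj M).obj N) = 0 := by
  have h0 : a • 𝟙 N = 0 := by ext y; exact hN y
  rw [← CategoryTheory.Functor.map_id ((Tor (ModuleCat.{u} A) p).obj M), ← tor_map_smul_right, h0,
    ← zero_smul A (0 : N ⟶ N), tor_map_smul_right, zero_smul]

end Groth.Agent.TorBalance
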