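import Groth.Agent.TorBalance.Basic

/-!
The long exact sequence of `Tor(M, -)`.
-/

set_option autoImplicit false
set_option linter.style.haveILetI false
universe u

open CategoryTheory Limits MonoidalCategory HomologicalComplex

namespace Groth.Agent.TorBalance

open Groth.Agent.DRingKP (tB)

variable {A : Type u} [CommRing A] {M : ModuleCat.{u} A} (P : ProjectiveResolution M)

theorem shortExact_tens (X : ModuleCat.{u} A) [Module.Flat A X] {S : ShortComplex (ModuleCat.{u} A)}
    (hS : S.ShortExact) : (S.map ((tB A).obj X)).ShortExact :=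
  haveI : PreservesFiniteLimits ((tB A).obj X) := inferInstanceAs (PreservesFiniteLimits (tensorLeft X))
  haveI : PreservesFiniteColimits ((tB A).obj X) := inferInstanceAs (PreservesFiniteColimits (tensorLeft X))
  hS.map_of_exact _

theorem flat_X (n : ℕ) : Module.Flat A (P.complex.X n) := by
  haveI := P.projective n
  haveI : Module.Projective A (P.complex.X n) := (IsProjective.iff_projective (P.complex.X n)).2 inferInstance
  infer_instance

instance : (cxR P.complex).PreservesZeroMorphisms where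
  map_zero X Y := by
    ext n : 1
    show ((tB A).obj (P.complex.X n)).map 0 = 0
    exact Functor.map_zero _ _ _

theorem shortExact_cxR {S : ShortComplex (ModuleCat.{u} A)} (hS : S.ShortExact) :
    (S.map (cxR P.complex)).ShortExact :=
  HomologicalComplex.shortExact_of_degreewise_shortExact _ fun n =>
    haveI := flat_X P n
    shortExact_tens (P.complex.X n) hS

section Transfer

variable {C D : Type*} [Category C] [Category D] [HasZeroMorphisms D] {F G : C ⥤ D}

theorem exact_of_natIso (e : F ≅ G) {X Y Z : C} (f : X ⟶ Y) (g : Y ⟶ Z) {w : G.map f ≫ G.map g = 0}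
    (h : (ShortComplex.mk (G.map f) (G.map g) w).Exact) :
    ∃ w₀ : F.map f ≫ F.map g = 0, (ShortComplex.mk (F.map f) (F.map g) w₀).Exact := by
  refine ⟨?_, ShortComplex.exact_of_iso (ShortComplex.isoMk (e.app X).symm (e.app Y).symm (e.app Z).symm
    (by simp) (by simp)) h⟩
  rw [← cancel_mono (e.hom.app Z), Category.assoc, e.hom.naturality, e.hom.naturality_assoc, w, comp_zero, zero_comp]

variable {F' G' : C ⥤ D}

theorem delta_of_natIso (e : F ≅ G) (e' : F' ≅ G') {X Y Z : C} (f : X ⟶ Y) (g : Y ⟶ Z)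
    {δ : G.obj Z ⟶ G'.obj X} {w₁ : G.map g ≫ δ = 0} {w₂ : δ ≫ G'.map f = 0}
    (h₁ : (ShortComplex.mk (G.map g) δ w₁).Exact) (h₂ : (ShortComplex.mk δ (G'.map f) w₂).Exact) :
    ∃ (d : F.obj Z ⟶ F'.obj X) (v₁ : F.map g ≫ d = 0) (v₂ : d ≫ F'.map f = 0),
      (ShortComplex.mk (F.map g) d v₁).Exact ∧ (ShortComplex.mk d (F'.map f) v₂).Exact := by
  refine ⟨e.hom.app Z ≫ δ ≫ e'.inv.app X, ?_, ?_,
    ShortComplex.exact_of_iso (ShortComplex.isoMk (e.app _).symm (e.app _).symm (e'.app _).symm
      (by simp) (by simp)) h₁,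
    ShortComplex.exact_of_iso (ShortComplex.isoMk (e.app _).symm (e'.app _).symm (e'.app _).symm
      (by simp) (by simp)) h₂⟩
  · simp [reassoc_of% w₁]
  · rw [← cancel_mono (e'.hom.app Y), Category.assoc, e'.hom.naturality]
    simp [reassoc_of% w₂, w₂]

end Transfer

theorem exists_les (M : ModuleCat.{u} A) {S : ShortComplex (ModuleCat.{u} A)} (hS : S.ShortExact) (i : ℕ) :
    (∃ w₀ : ((Tor (ModuleCat.{u} A) i).obj M).map S.f ≫ ((Tor (ModuleCat.{u} A) i).obj M).map S.g = 0,
        (ShortComplex.mk (((Tor (ModuleCat.{u} A) i).obj M).map S.f) (((Tor (ModuleCat.{u} A) i).obj M).map S.g) w₀).Exact) ∧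
      ∃ (δ : ((Tor (ModuleCat.{u} A) (i + 1)).obj M).obj S.X₃ ⟶ ((Tor (ModuleCat.{u} A) i).obj M).obj S.X₁)
        (w₁ : ((Tor (ModuleCat.{u} A) (i + 1)).obj M).map S.g ≫ δ = 0)
        (w₂ : δ ≫ ((Tor (ModuleCat.{u} A) i).obj M).map S.f = 0),
        (ShortComplex.mk (((Tor (ModuleCat.{u} A) (i + 1)).obj M).map S.g) δ w₁).Exact ∧
          (ShortComplex.mk δ (((Tor (ModuleCat.{u} A) i).obj M).map S.f) w₂).Exact := by
  let P := projectiveResolution M
  have hC := shortExact_cxR P hS
  have hrel : (ComplexShape.down ℕ).Rel (i + 1) i := by simp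
  exact ⟨exact_of_natIso (balanceIso P i) S.f S.g (hC.homology_exact₂ i),
    delta_of_natIso (balanceIso P (i + 1)) (balanceIso P i) S.f S.g (hC.homology_exact₃ (i + 1) i hrel)
      (hC.homology_exact₁ (i + 1) i hrel)⟩

end Groth.Agent.TorBalance
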