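import Mathlib
import Groth.Agent.KFlat.Tensor
import Groth.Agent.KFlat.RFlat

/-!
Tensoring complexes with an object in degree zero, naturally, on either side.
-/

set_option autoImplicit false
set_option linter.style.haveILetI false
universe v u

namespace Groth.Agent.TorBalance

open CategoryTheory Limits HomologicalComplex Groth.Agent.KFlat

variable {A : Type u} [Category.{v} A] [Abelian A] (B : A ⥤ A ⥤ A) [B.Additive]
  [∀ X, (B.obj X).Additive]
  [∀ K L : CochainComplex A ℤ, HomologicalComplex.HasMapBifunctor K L B (ComplexShape.up ℤ)]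

/-- The degree `n` term of `F[0] ⊗ L`. -/
noncomputable def leftXIso (F : A) (L : CochainComplex A ℤ) (n : ℤ) :
    (B.obj F).obj (L.X n) ≅
      (((tens B).obj ((single A (ComplexShape.up ℤ) 0).obj F)).obj L).X n where
  hom := (B.map (singleObjXSelf (ComplexShape.up ℤ) 0 F).inv).app (L.X n) ≫
    HomologicalComplex.ιMapBifunctor _ L B (ComplexShape.up ℤ) 0 n n (zero_add n)
  inv := mapBifunctorDesc fun p q hpq =>
    if hp : p = 0 then
      (B.map (singleObjXIsoOfEq (ComplexShape.up ℤ) 0 F p hp).hom).app (L.X q) ≫
        eqToHom (congrArg (fun t => (B.obj F).obj (L.X t)) (by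
          have : p + q = n := hpq
          lia))
    else 0
  hom_inv_id := by
    refine (Category.assoc _ _ _).trans ?_
    erw [ι_mapBifunctorDesc]
    rw [dif_pos rfl]
    simp only [eqToHom_refl, Category.comp_id, ← NatTrans.comp_app, ← Functor.map_comp]
    rw [show (singleObjXIsoOfEq (ComplexShape.up ℤ) 0 F 0 rfl).hom =
      (singleObjXSelf (ComplexShape.up ℤ) 0 F).hom from rfl, Iso.inv_hom_id, CategoryTheory.Functor.map_id, NatTrans.id_app]
  inv_hom_id := by
    refine mapBifunctor.hom_ext fun p q hpq => ?_
    refine (ι_mapBifunctorDesc_assoc _ p q hpq _).trans ((?_ : _ = _).trans (Category.comp_id _).symm)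
    split_ifs with hp
    · subst hp
      obtain rfl : q = n := by
        have : 0 + q = n := hpq
        lia
      simp only [eqToHom_refl, Category.comp_id, ← NatTrans.comp_app_assoc, ← Functor.map_comp]
      rw [show (singleObjXIsoOfEq (ComplexShape.up ℤ) 0 F 0 rfl).hom =
        (singleObjXSelf (ComplexShape.up ℤ) 0 F).hom from rfl, Iso.hom_inv_id, CategoryTheory.Functor.map_id, NatTrans.id_app,
        ]
      exact Category.id_comp _
    · rw [zero_comp]
      have : IsZero (B.obj (((single A (ComplexShape.up ℤ) 0).obj F).X p)) :=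
        Functor.map_isZero _ (isZero_single_obj_X (ComplexShape.up ℤ) 0 F p hp)
      exact (this.obj _).eq_of_src _ _

/-- Tensoring with an object in degree zero on the left, naturally in the complex. -/
noncomputable def leftSingleIso (F : A) :
    (B.obj F).mapHomologicalComplex (ComplexShape.up ℤ) ≅ (tens B).obj ((single A (ComplexShape.up ℤ) 0).obj F) :=
  NatIso.ofComponents
    (fun L => Hom.isoOfComponents (leftXIso B F L) fun i j (h : i + 1 = j) => by
      subst h
      set S := (single A (ComplexShape.up ℤ) 0).obj F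
      change (_ ≫ HomologicalComplex.ιMapBifunctor S L B (ComplexShape.up ℤ) 0 i i (zero_add i)) ≫
          (HomologicalComplex.mapBifunctor S L B (ComplexShape.up ℤ)).d i (i + 1) =
        (B.obj F).map (L.d i (i + 1)) ≫ (_ ≫ _)
      rw [mapBifunctor.d_eq, Category.assoc, Preadditive.comp_add, mapBifunctor.ι_D₁, mapBifunctor.ι_D₂,
        mapBifunctor.d₁_eq' _ _ _ _ (show (ComplexShape.up ℤ).Rel 0 (0 + 1) from rfl),
        single_obj_d, Functor.map_zero, zero_app, zero_comp, smul_zero, zero_add,
        mapBifunctor.d₂_eq _ _ _ _ 0 (show (ComplexShape.up ℤ).Rel i (i + 1) from rfl) (i + 1)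
          (show (0 : ℤ) + (i + 1) = i + 1 by lia),
        show ComplexShape.ε₂ (ComplexShape.up ℤ) (ComplexShape.up ℤ) (ComplexShape.up ℤ) ((0 : ℤ), i) = 1 from rfl,
        one_smul]
      exact ((B.map (singleObjXSelf (ComplexShape.up ℤ) 0 F).inv).naturality_assoc (L.d i (i + 1)) _).symm)
    fun {L L'} φ => by
      ext n
      change (B.obj F).map (φ.f n) ≫ _ ≫ _ = (_ ≫ _) ≫ (((tens B).obj _).map φ).f n
      rw [obj_map_f, Category.assoc]
      erw [ι_tt]
      rw [CategoryTheory.Functor.map_id, NatTrans.id_app, Category.id_comp]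
      exact (B.map (singleObjXSelf (ComplexShape.up ℤ) 0 F).inv).naturality_assoc (φ.f n) _

/-- Tensoring with an object in degree zero on the right. -/
noncomputable def rightSingleIso (L : CochainComplex A ℤ) (F : A) :
    ((B.flip.obj F).mapHomologicalComplex (ComplexShape.up ℤ)).obj L ≅
      ((tens B).obj L).obj ((single A (ComplexShape.up ℤ) 0).obj F) :=
  Hom.isoOfComponents (fun n => singleXIso B L F 0 n n (add_zero n)) fun i j (h : i + 1 = j) => by
    subst h
    exact singleXIso_comm' B L F 0 i i (i + 1) (add_zero i) (add_zero (i + 1))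

theorem rightSingleIso_naturality (L : CochainComplex A ℤ) {F F' : A} (f : F ⟶ F') :
    (NatTrans.mapHomologicalComplex (B.flip.map f) (ComplexShape.up ℤ)).app L ≫ (rightSingleIso B L F').hom =
      (rightSingleIso B L F).hom ≫ ((tens B).obj L).map ((single A (ComplexShape.up ℤ) 0).map f) := by
  ext n
  change (B.obj (L.X n)).map f ≫ _ ≫ _ = (_ ≫ _) ≫ (((tens B).obj _).map _).f n
  rw [obj_map_f, Category.assoc]
  erw [ι_tt]
  rw [CategoryTheory.Functor.map_id, NatTrans.id_app, Category.id_comp, ← Functor.map_comp_assoc]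
  erw [← Functor.map_comp_assoc]
  rw [single_map_f_self, Iso.inv_hom_id_assoc]

end Groth.Agent.TorBalance
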