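import Mathlib
import Groth.Agent.DRingKP.Tor
import Groth.Agent.TorBalance.MapExtend
import Groth.Agent.TorBalance.Single

/-!
Balancing of `Tor`: it is computed by a projective resolution of the first variable, naturally in
the second variable.
-/

set_option autoImplicit false
set_option linter.style.haveILetI false
universe u

open CategoryTheory Limits MonoidalCategory HomologicalComplex

namespace Groth.Agent.TorBalance

open Groth.Agent.DRingKP (tB tBraid resToSingle isKFlat_res)

section Squares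

variable {C : Type*} [Category C] {X X' Y Y' Z Z' : C}

theorem sq_trans {a : X ⟶ X'} {b : Y ⟶ Y'} {c : Z ⟶ Z'} {x : X ≅ Y} {x' : X' ≅ Y'} {y : Y ≅ Z} {y' : Y' ≅ Z'}
    (h : a ≫ x'.hom = x.hom ≫ b) (h' : b ≫ y'.hom = y.hom ≫ c) :
    a ≫ (x' ≪≫ y').hom = (x ≪≫ y).hom ≫ c := by
  rw [Iso.trans_hom, Iso.trans_hom, reassoc_of% h, h', Category.assoc]

theorem sq_symm {a : X ⟶ X'} {b : Y ⟶ Y'} {x : X ≅ Y} {x' : X' ≅ Y'}
    (h : a ≫ x'.hom = x.hom ≫ b) : b ≫ x'.symm.hom = x.symm.hom ≫ a := by
  rw [Iso.symm_hom, Iso.symm_hom, Iso.eq_inv_comp, ← reassoc_of% h, Iso.hom_inv_id, Category.comp_id]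

theorem sq_map {D : Type*} [Category D] (F : C ⥤ D) {a : X ⟶ X'} {b : Y ⟶ Y'} {x : X ≅ Y} {x' : X' ≅ Y'}
    (h : a ≫ x'.hom = x.hom ≫ b) : F.map a ≫ (F.mapIso x').hom = (F.mapIso x).hom ≫ F.map b := by
  rw [Functor.mapIso_hom, Functor.mapIso_hom, ← F.map_comp, ← F.map_comp, h]

end Squares

variable {A : Type u} [CommRing A] {M : ModuleCat.{u} A} (P : ProjectiveResolution M)

local notation "emb" => ComplexShape.embeddingDownNat
local notation "Hz" => fun (p : ℕ) => HomologicalComplex.homologyFunctor (ModuleCat _) (ComplexShape.up ℤ) (-(p : ℤ))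

/-- `N ↦ C ⊗ N` for a complex `C`. -/
noncomputable def cxR (C : ChainComplex (ModuleCat.{u} A) ℕ) :
    ModuleCat.{u} A ⥤ ChainComplex (ModuleCat.{u} A) ℕ where
  obj N := (((tB A).flip.obj N).mapHomologicalComplex _).obj C
  map f := (NatTrans.mapHomologicalComplex ((tB A).flip.map f) _).app C
  map_id N := by
    ext n : 1
    show ((tB A).obj (C.X n)).map (𝟙 N) = 𝟙 _
    exact CategoryTheory.Functor.map_id _ _
  map_comp f g := by
    ext n : 1
    show ((tB A).obj (C.X n)).map (f ≫ g) = _
    exact CategoryTheory.Functor.map_comp _ _ _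

theorem preservesColimitsOfShape_cxR (C : ChainComplex (ModuleCat.{u} A) ℕ) (J : Type u) [SmallCategory J] :
    PreservesColimitsOfShape J (cxR C) := by
  refine ⟨fun {K} => ⟨fun {t} ht => ⟨HomologicalComplex.isColimitOfEval _ _ fun n => ?_⟩⟩⟩
  have := DRingKP.preservesColimits_tB A (C.X n)
  exact isColimitOfPreserves ((tB A).obj (C.X n)) ht

theorem quasiIso_left (Q : CochainComplex (ModuleCat.{u} A) ℤ) (hQ : KFlat.RFlat (tB A) Q) :
    QuasiIso (((KFlat.tens (tB A)).map (resToSingle P)).app Q) :=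
  hQ.quasiIso_map_app (resToSingle P)

theorem quasiIso_right {N : ModuleCat.{u} A} (Q : ProjectiveResolution N) :
    QuasiIso (((KFlat.tens (tB A)).obj P.cochainComplex).map (resToSingle Q)) :=
  KFlat.quasiIso_obj_map_of_acyclic _ _
    (KFlat.acyclic_of_iso (KFlat.swapIso (tBraid A) _ _)
      ((isKFlat_res P) _ (KFlat.mappingCone_acyclic (resToSingle Q))))

/-- The comparison at one module. -/
noncomputable def balanceObj (p : ℕ) {N : ModuleCat.{u} A} (Q : ProjectiveResolution N) :
    ((CategoryTheory.Tor (ModuleCat.{u} A) p).obj M).obj N ≅ ((cxR P.complex).obj N).homology p :=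
  haveI h1 := quasiIso_left P Q.cochainComplex (isKFlat_res Q)
  haveI h2 := quasiIso_right P Q
  Q.isoLeftDerivedObj ((tB A).obj M) p ≪≫
    ((((((tB A).obj M).mapHomologicalComplex (ComplexShape.down ℕ)).obj Q.complex).extendHomologyIso emb
      (j' := -(p : ℤ)) rfl).symm ≪≫
    (Hz p).mapIso ((mapExtendIso ((tB A).obj M) emb Q.complex).symm ≪≫
      (leftSingleIso (tB A) M).app Q.cochainComplex) ≪≫
    (isoOfQuasiIsoAt (((KFlat.tens (tB A)).map (resToSingle P)).app Q.cochainComplex) (-(p : ℤ))).symm ≪≫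
    isoOfQuasiIsoAt (((KFlat.tens (tB A)).obj P.cochainComplex).map (resToSingle Q)) (-(p : ℤ)) ≪≫
    (Hz p).mapIso ((rightSingleIso (tB A) P.cochainComplex N).symm ≪≫
      mapExtendIso ((tB A).flip.obj N) emb P.complex) ≪≫
    ((((tB A).flip.obj N).mapHomologicalComplex (ComplexShape.down ℕ)).obj P.complex).extendHomologyIso emb rfl)

theorem balanceObj_naturality (p : ℕ) {N N' : ModuleCat.{u} A} (f : N ⟶ N') (Q : ProjectiveResolution N)
    (Q' : ProjectiveResolution N') :
    ((CategoryTheory.Tor (ModuleCat.{u} A) p).obj M).map f ≫ (balanceObj P p Q').hom =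
      (balanceObj P p Q).hom ≫ homologyMap ((cxR P.complex).map f) p := by
  haveI h1 := quasiIso_left P Q.cochainComplex (isKFlat_res Q)
  haveI h1' := quasiIso_left P Q'.cochainComplex (isKFlat_res Q')
  haveI h2 := quasiIso_right P Q
  haveI h2' := quasiIso_right P Q'
  let φ := ProjectiveResolution.lift f Q Q'
  have comm : φ.f 0 ≫ Q'.π.f 0 = Q.π.f 0 ≫ f := ProjectiveResolution.lift_commutes_zero f Q Q'
  let Φ : ProjectiveResolution.Hom Q Q' f := ⟨φ, comm.trans (by simp)⟩
  have hπ : Φ.hom' ≫ resToSingle Q' =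
      resToSingle Q ≫ (HomologicalComplex.single (ModuleCat.{u} A) (ComplexShape.up ℤ) 0).map f :=
    Φ.hom'_comp_π'
  have s6 : homologyMap (((KFlat.tens (tB A)).obj P.cochainComplex).map Φ.hom') (-(p : ℤ)) ≫
      (isoOfQuasiIsoAt (((KFlat.tens (tB A)).obj P.cochainComplex).map (resToSingle Q')) (-(p : ℤ))).hom =
      (isoOfQuasiIsoAt (((KFlat.tens (tB A)).obj P.cochainComplex).map (resToSingle Q)) (-(p : ℤ))).hom ≫
      homologyMap (((KFlat.tens (tB A)).obj P.cochainComplex).map
        ((HomologicalComplex.single (ModuleCat.{u} A) (ComplexShape.up ℤ) 0).map f)) (-(p : ℤ)) := by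
    rw [isoOfQuasiIsoAt_hom, isoOfQuasiIsoAt_hom, ← homologyMap_comp, ← homologyMap_comp,
      ← Functor.map_comp, ← Functor.map_comp, hπ]
  have s5 : homologyMap (((KFlat.tens (tB A)).obj P.cochainComplex).map Φ.hom') (-(p : ℤ)) ≫
      (isoOfQuasiIsoAt (((KFlat.tens (tB A)).map (resToSingle P)).app Q'.cochainComplex) (-(p : ℤ))).hom =
      (isoOfQuasiIsoAt (((KFlat.tens (tB A)).map (resToSingle P)).app Q.cochainComplex) (-(p : ℤ))).hom ≫
      homologyMap (((KFlat.tens (tB A)).obj ((HomologicalComplex.single _ (ComplexShape.up ℤ) 0).obj M)).map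
        Φ.hom') (-(p : ℤ)) := by
    rw [isoOfQuasiIsoAt_hom, isoOfQuasiIsoAt_hom, ← homologyMap_comp, ← homologyMap_comp,
      ((KFlat.tens (tB A)).map (resToSingle P)).naturality]
  refine sq_trans (ProjectiveResolution.isoLeftDerivedObj_hom_naturality f Q Q' φ comm ((tB A).obj M) p)
    (sq_trans (sq_symm (HomologicalComplex.extendHomologyIso_hom_naturality _ _ _))
    (sq_trans (sq_map (Hz p) (sq_trans (sq_symm (mapExtendIso_naturality ((tB A).obj M) emb φ))
      ((leftSingleIso (tB A) M).hom.naturality Φ.hom')))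
    (sq_trans (sq_symm s5) (sq_trans s6
    (sq_trans (sq_map (Hz p) (sq_trans (sq_symm (rightSingleIso_naturality (tB A) P.cochainComplex f))
      (mapExtendIso_natTrans emb ((tB A).flip.map f) P.complex)))
    (HomologicalComplex.extendHomologyIso_hom_naturality _ _ _))))))

/-- `Tor` is computed by a projective resolution of the first variable, naturally in the second. -/
noncomputable def balanceIso (p : ℕ) :
    (CategoryTheory.Tor (ModuleCat.{u} A) p).obj M ≅
      cxR P.complex ⋙ HomologicalComplex.homologyFunctor (ModuleCat.{u} A) (ComplexShape.down ℕ) p :=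
  NatIso.ofComponents (fun N => balanceObj P p (projectiveResolution N))
    fun f => balanceObj_naturality P p f _ _

end Groth.Agent.TorBalance
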